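import Cfsg.Agent.Lib.KnownB.ElementOrders
import Cfsg.Agent.Lib.KnownB.UnitaryEigen

/-!
Block diagonal elements of `SU n` and projective multiples of elements commuting with a self-adjoint idempotent.
-/

set_option autoImplicit false

namespace CfsgLib.KnownB.PSUOrders

open Matrix CfsgLib.Classical CfsgLib.Classical.Unitary CfsgLib.KnownB.UnitaryEigen

universe u

variable {F : Type u} [Field F] [Fintype F] {σ : F →+* F} {q n : ℕ}

theorem su_pow_eq_one_iff (g : Cfsg.SU n F q) (m : ℕ) : g ^ m = 1 ↔ g.1.1 ^ m = 1 :=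
  ⟨fun e => congrArg (fun z : Cfsg.SU n F q => z.1.1) e, fun e => Subtype.ext (Subtype.ext e)⟩

theorem center_of_scalar {g : Cfsg.SU n F q} {c : F} (hc : g.1.1 = algebraMap F _ c) :
    g ∈ Subgroup.center (Cfsg.SU n F q) := by
  refine Subgroup.mem_center_iff.2 fun k => Subtype.ext (Subtype.ext ?_)
  show k.1.1 * g.1.1 = g.1.1 * k.1.1
  rw [hc]
  exact (Algebra.commutes c k.1.1).symm

theorem mk_pow_of_scalar {g : Cfsg.SU n F q} {m : ℕ} {c : F}
    (hc : g.1.1 ^ m = algebraMap F (Matrix (Fin n) (Fin n) F) c) : (QuotientGroup.mk g : Cfsg.PSU n F q) ^ m = 1 := by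
  rw [← QuotientGroup.mk_pow, QuotientGroup.eq_one_iff]
  exact center_of_scalar (g := g ^ m) hc

theorem scalar_of_mk_pow (hF : Fintype.card F = q ^ 2) (hn : 2 ≤ n) {g : Cfsg.SU n F q} {m : ℕ}
    (hg : (QuotientGroup.mk g : Cfsg.PSU n F q) ^ m = 1) :
    ∃ c : F, c ^ (q + 1) = 1 ∧ c ^ n = 1 ∧ g.1.1 ^ m = algebraMap F (Matrix (Fin n) (Fin n) F) c := by
  rw [← QuotientGroup.mk_pow, QuotientGroup.eq_one_iff] at hg
  obtain ⟨e, he1, he2, he3⟩ := SU_center_scalar (by rw [Nat.card_eq_fintype_card, hF]) hn hg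
  exact ⟨e, he1, he2, he3⟩

/-- A block diagonal element. -/
theorem exists_blocks (hF : Fintype.card F = q ^ 2) (h : UFrob σ q) (hn : 2 ≤ n) {a b : ℕ} (hab : a + b = n)
    (A : Cfsg.SU a F q) (B : Cfsg.SU b F q) :
    ∃ g : Cfsg.SU n F q,
      ((∃ v : Fin b → F, v ≠ 0 ∧ B.1.1 *ᵥ v = v) →
        orderOf A ∣ orderOf (QuotientGroup.mk g : Cfsg.PSU n F q) ∧
          orderOf B ∣ orderOf (QuotientGroup.mk g : Cfsg.PSU n F q) ∧
          orderOf A ∣ orderOf g ∧ orderOf B ∣ orderOf g ∧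
          ∃ v : Fin n → F, v ≠ 0 ∧ g.1.1 *ᵥ v = v) ∧
      (0 < a → 0 < b → ∃ E : Matrix (Fin n) (Fin n) F,
        E * E = E ∧ E ≠ 0 ∧ E ≠ 1 ∧ Eᵀ = E.map σ ∧ Commute E g.1.1) := by
  let e : Fin a ⊕ Fin b ≃ Fin n := finSumFinEquiv.trans (finCongr hab)
  let R := Matrix.reindexAlgEquiv F F e
  set M := fromBlocks A.1.1 0 0 B.1.1 with hM
  have hdet : (R M).det = 1 := by
    rw [Matrix.det_reindexAlgEquiv, hM, Matrix.det_fromBlocks_zero₁₂, A.1.2, B.1.2, mul_one]
  have hz : ∀ {α β : Type} , (0 : Matrix α β F).map σ = 0 := fun {α β} => Matrix.map_zero σ (map_zero σ)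
  have hMM : Mᵀ * M.map σ = 1 := by
    rw [hM, fromBlocks_transpose, fromBlocks_map, fromBlocks_multiply]
    simp [su_mul h A, su_mul h B, hz]
  have hmem : (⟨R M, hdet⟩ : Matrix.SpecialLinearGroup (Fin n) F) ∈ Cfsg.SU n F q := mem_SU_of_mul h (by
    show (R M)ᵀ * (R M).map σ = 1
    rw [show (R M)ᵀ = R Mᵀ from rfl, show (R M).map σ = R (M.map σ) from rfl, ← map_mul, hMM, map_one])
  refine ⟨⟨_, hmem⟩, ?_, ?_⟩
  · rintro ⟨v, hv, hBv⟩
    have hfix : (R M) *ᵥ (Sum.elim (0 : Fin a → F) v ∘ e.symm) = Sum.elim (0 : Fin a → F) v ∘ e.symm := by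
      rw [show R M = M.submatrix e.symm e.symm from rfl,
        Matrix.submatrix_mulVec_equiv, hM, Matrix.fromBlocks_mulVec]
      simp [Function.comp_assoc, Matrix.mulVec_zero, hBv]
    have hv' : Sum.elim (0 : Fin a → F) v ∘ e.symm ≠ 0 := fun h => hv (funext fun i => by
      simpa using congrFun h (e (Sum.inr i)))
    set g : Cfsg.SU n F q := ⟨⟨R M, hdet⟩, hmem⟩
    have key : ∀ m : ℕ, (QuotientGroup.mk g : Cfsg.PSU n F q) ^ m = 1 → A ^ m = 1 ∧ B ^ m = 1 := by
      intro m hm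
      obtain ⟨c, -, -, hc⟩ := scalar_of_mk_pow hF hn hm
      have hgm : ∀ j : ℕ, (R M) ^ j *ᵥ (Sum.elim (0 : Fin a → F) v ∘ e.symm)
          = Sum.elim (0 : Fin a → F) v ∘ e.symm := by
        intro j
        induction j with
        | zero => rw [pow_zero, Matrix.one_mulVec]
        | succ j ih => rw [pow_succ, ← Matrix.mulVec_mulVec, hfix, ih]
      have hc1 : c = 1 := by
        have h := hgm m
        rw [show (R M) ^ m = algebraMap F _ c from hc,
          Algebra.algebraMap_eq_smul_one, Matrix.smul_mulVec, Matrix.one_mulVec] at h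
        obtain ⟨i, hi⟩ := Function.ne_iff.1 hv'
        exact mul_right_cancel₀ hi (by simpa using congrFun h i)
      rw [hc1, map_one, show g.1.1 ^ m = R (M ^ m) from (map_pow R _ _).symm, map_eq_one_iff R R.injective, hM,
        Matrix.fromBlocks_diagonal_pow, ← Matrix.fromBlocks_one, Matrix.fromBlocks_inj] at hc
      exact ⟨(su_pow_eq_one_iff A m).2 hc.1, (su_pow_eq_one_iff B m).2 hc.2.2.2⟩
    have k1 := orderOf_dvd_of_pow_eq_one (key _ (pow_orderOf_eq_one _)).1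
    have k2 := orderOf_dvd_of_pow_eq_one (key _ (pow_orderOf_eq_one _)).2
    have hd := orderOf_map_dvd (QuotientGroup.mk' (Subgroup.center (Cfsg.SU n F q))) g
    exact ⟨k1, k2, k1.trans hd, k2.trans hd, _, hv', hfix⟩
  · intro ha hb
    refine ⟨R (Matrix.fromBlocks 1 0 0 0), ?_, ?_, ?_, ?_, ?_⟩
    · rw [← map_mul, Matrix.fromBlocks_multiply]; simp
    · rw [Ne, map_eq_zero_iff R R.injective]
      intro h
      haveI : Nonempty (Fin a) := ⟨⟨0, ha⟩⟩
      have := congrFun (congrFun h (Sum.inl ⟨0, ha⟩)) (Sum.inl ⟨0, ha⟩)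
      simp at this
    · rw [Ne, map_eq_one_iff R R.injective]
      intro h
      haveI : Nonempty (Fin b) := ⟨⟨0, hb⟩⟩
      have := congrFun (congrFun h (Sum.inr ⟨0, hb⟩)) (Sum.inr ⟨0, hb⟩)
      simp at this
    · show R (fromBlocks 1 0 0 0)ᵀ = R ((fromBlocks 1 0 0 0).map σ)
      rw [fromBlocks_transpose, fromBlocks_map]
      simp [hz, Matrix.map_one σ (map_zero σ) (map_one σ)]
    · refine (Commute.map ?_ R)
      rw [Commute, SemiconjBy, hM, Matrix.fromBlocks_multiply, Matrix.fromBlocks_multiply]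
      simp

/-- A commuting self-adjoint idempotent gives a projective multiple by any prime divisor of `q + 1` prime to `n`. -/
theorem exists_mul_prime (hF : Fintype.card F = q ^ 2) (h : UFrob σ q) (hn : 2 ≤ n) {r : ℕ} (hr : r.Prime)
    (hrq : r ∣ q + 1) (hrn : ¬ r ∣ n) {g : Cfsg.SU n F q} {E : Matrix (Fin n) (Fin n) F} (hE : E * E = E)
    (h0 : E ≠ 0) (h1 : E ≠ 1) (hsa : Eᵀ = E.map σ) (hc : Commute E g.1.1) :
    ∃ k : Cfsg.PSU n F q, Nat.lcm (orderOf (QuotientGroup.mk g : Cfsg.PSU n F q)) r ∣ orderOf k := by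
  classical
  haveI := Fact.mk hr
  by_cases hdiv : r ∣ orderOf (QuotientGroup.mk g : Cfsg.PSU n F q)
  · exact ⟨_, Nat.lcm_dvd dvd_rfl hdiv⟩
  obtain ⟨ζ, hζ⟩ := exists_prime_orderOf_dvd_card' r (G := Fˣ) (by
    rw [Nat.card_units, Nat.card_eq_fintype_card, hF]
    exact hrq.trans ⟨q - 1, by simpa using Nat.sq_sub_sq q 1⟩)
  have hζr : (ζ : F) ^ r = 1 := by rw [← Units.val_pow_eq_pow_val, ← hζ, pow_orderOf_eq_one, Units.val_one]
  have hnorm : ∀ x : F, x ^ r = 1 → x * σ x = 1 := fun x hx => by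
    rw [h.pow, ← pow_succ']
    obtain ⟨j, hj⟩ := hrq
    rw [hj, pow_mul, hx, one_pow]
  have hζ1 : (ζ : F) ≠ 1 := fun h => hr.ne_one (by rw [← hζ, Units.val_eq_one.1 h, orderOf_one])
  let Z : Matrix (Fin n) (Fin n) F := 1 + ((ζ : F) - 1) • E
  have hmul : ∀ a b : F, (1 + a • E) * (1 + b • E) = 1 + (a + b + a * b) • E := by
    intro a b
    rw [add_mul, one_mul, mul_add, mul_one, smul_mul_smul_comm, hE, add_smul, add_smul]
    abel
  have hpow : ∀ j : ℕ, Z ^ j = 1 + ((ζ : F) ^ j - 1) • E := by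
    intro j
    induction j with
    | zero => simp
    | succ j ih => rw [pow_succ, ih, hmul]; congr 2; ring
  have hdet : Z.det ^ r = 1 := by rw [← Matrix.det_pow, hpow, hζr, sub_self, zero_smul, add_zero, Matrix.det_one]
  obtain ⟨k, hk⟩ := Nat.exists_mul_mod_eq_one_of_coprime ((hr.coprime_iff_not_dvd.2 hrn).symm) hr.one_lt
  set δ := Z.det
  let μ : F := δ ^ ((r - 1) * k)
  have hμ : μ ^ n * δ = 1 := by
    obtain ⟨t, ht⟩ : ∃ t, k * n = r * t + 1 := ⟨k * n / r, by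
      have := Nat.div_add_mod (k * n) r; rw [mul_comm n k] at hk; omega⟩
    rw [← pow_mul, ← pow_succ, show (r - 1) * k * n + 1 = r * ((r - 1) * t + 1) by
      rw [mul_assoc, ht]; obtain ⟨s, rfl⟩ : ∃ s, r = s + 1 := ⟨r - 1, by have := hr.one_lt; omega⟩
      simp; ring, pow_mul, hdet, one_pow]
  have hμr : μ ^ r = 1 := by rw [← pow_mul, mul_comm _ r, pow_mul, hdet, one_pow]
  have hdetz : (μ • Z).det = 1 := by rw [Matrix.det_smul, Fintype.card_fin, hμ]
  have hmem : (⟨μ • Z, hdetz⟩ : Matrix.SpecialLinearGroup (Fin n) F) ∈ Cfsg.SU n F q := mem_SU_of_mul h (by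
    show (μ • Z)ᵀ * (μ • Z).map σ = 1
    have hE' : E.map σ * E.map σ = E.map σ := by rw [← Matrix.map_mul, hE]
    have hmap : (μ • Z).map σ = σ μ • (1 + (σ ζ - 1) • E.map σ) := by
      ext i j
      by_cases e : i = j <;> simp [Z, Matrix.one_apply, e, mul_add]
    rw [hmap, Matrix.transpose_smul, smul_mul_smul_comm, hnorm μ hμr, one_smul, Matrix.transpose_add,
      Matrix.transpose_one, Matrix.transpose_smul, hsa, add_mul, one_mul, mul_add, mul_one,
      smul_mul_smul_comm, hE', add_assoc, ← add_smul, ← add_smul]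
    rw [show σ (ζ : F) - 1 + (((ζ : F) - 1) + ((ζ : F) - 1) * (σ (ζ : F) - 1)) = 0 by
      linear_combination hnorm _ hζr, zero_smul, add_zero])
  let z : Cfsg.SU n F q := ⟨⟨μ • Z, hdetz⟩, hmem⟩
  have hcz : Commute z g := by
    refine Subtype.ext (Subtype.ext ?_)
    change (μ • Z) * g.1.1 = g.1.1 * (μ • Z)
    have : Commute Z g.1.1 := (Commute.one_left _).add_left (hc.smul_left _)
    rw [smul_mul_assoc, mul_smul_comm, this.eq]
  have hz : orderOf (QuotientGroup.mk z : Cfsg.PSU n F q) = r := by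
    refine orderOf_eq_prime (mk_pow_of_scalar (c := μ ^ r) ?_) (fun h => ?_)
    · rw [show z.1.1 = μ • Z from rfl, _root_.smul_pow, hpow, hζr, sub_self, zero_smul, add_zero,
        Algebra.algebraMap_eq_smul_one]
    · obtain ⟨c, -, -, hcc⟩ := scalar_of_mk_pow hF hn (m := 1) ((pow_one _).trans h)
      rw [pow_one, Algebra.algebraMap_eq_smul_one] at hcc
      change μ • Z = c • 1 at hcc
      have hμ0 : μ ≠ 0 := fun h0 => by
        rw [h0, zero_pow (fun hn0 : n = 0 => hrn (hn0 ▸ dvd_zero r)), zero_mul] at hμ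
        exact zero_ne_one hμ
      have hEc : ((ζ : F) - 1) • E = (μ⁻¹ * c - 1) • (1 : Matrix (Fin n) (Fin n) F) := by
        rw [sub_smul (μ⁻¹ * c), mul_smul, ← hcc, smul_smul, inv_mul_cancel₀ hμ0, one_smul, one_smul]
        simp [Z]
      have hz0 := sub_ne_zero.2 hζ1
      have hEd : E = (((ζ : F) - 1)⁻¹ * (μ⁻¹ * c - 1)) • (1 : Matrix (Fin n) (Fin n) F) := by
        rw [mul_smul, ← hEc, smul_smul, inv_mul_cancel₀ hz0, one_smul]
      set d := ((ζ : F) - 1)⁻¹ * (μ⁻¹ * c - 1)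
      rw [hEd, smul_mul_smul_comm, one_mul] at hE
      by_cases hd : d = 0
      · exact h0 (by rw [hEd, hd, zero_smul])
      · haveI : Nonempty (Fin n) := ⟨⟨0, by omega⟩⟩
        have : d * d = d := smul_left_injective F (one_ne_zero (α := Matrix (Fin n) (Fin n) F)) hE
        exact h1 (by rw [hEd, mul_right_cancel₀ hd (this.trans (one_mul d).symm), one_smul])
  refine ⟨(QuotientGroup.mk z : Cfsg.PSU n F q) * QuotientGroup.mk g, ?_⟩
  have hcomm : Commute (QuotientGroup.mk z : Cfsg.PSU n F q) (QuotientGroup.mk g) :=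
    hcz.map (QuotientGroup.mk' _)
  rw [hcomm.orderOf_mul_eq_mul_orderOf_of_coprime (hz ▸ hr.coprime_iff_not_dvd.2 hdiv), hz, Nat.lcm_comm]
  exact Nat.lcm_dvd_mul _ _

end CfsgLib.KnownB.PSUOrders
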