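import Cfsg.Agent.Lib.KnownB.PSUOrders.Basic
import Cfsg.Agent.Lib.KnownB.UnitaryCharpoly
import Cfsg.Agent.Lib.KnownB.Regular
import Cfsg.Agent.S2496

/-!
Elements of maximal semisimple and unipotent orders in `SU n`.
-/

set_option autoImplicit false

namespace CfsgLib.KnownB.PSUOrders

open Polynomial Matrix CfsgLib.Classical CfsgLib.Classical.Unitary CfsgLib.KnownB.UnitaryEigen
  CfsgLib.KnownB.UnitaryConj CfsgLib.KnownB.UnitaryCharpoly
open Cfsg.Agent.S2496 (cof cof_mul dvd_cof_iff)

universe u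

variable {F : Type u} [Field F] [Fintype F] {σ : F →+* F} {q n : ℕ}

theorem exists_prime_pow (hF : Fintype.card F = q ^ 2) (p : ℕ) [Fact p.Prime] [CharP F p] : ∃ k, q = p ^ k := by
  obtain ⟨e, -, he⟩ := FiniteField.card F p
  obtain ⟨k, -, hk⟩ := (Nat.dvd_prime_pow Fact.out).1 (he ▸ hF ▸ dvd_pow_self q two_ne_zero)
  exact ⟨k, hk⟩

/-- The characteristic polynomial of a `q`-th power. -/
theorem charpoly_pow (h : UFrob σ q) (p : ℕ) [Fact p.Prime] [CharP F p] {k : ℕ} (hk : q = p ^ k)
    (M : Matrix (Fin n) (Fin n) F) : (M ^ q).charpoly = M.charpoly.map σ := by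
  rcases isEmpty_or_nonempty (Fin n) with _ | _
  · simp [Matrix.charpoly, Matrix.det_isEmpty]
  have hq : 0 < q := hk ▸ pow_pos (Fact.out : p.Prime).pos k
  have h1 : expand F q (M.charpoly.map σ) = M.charpoly ^ q := by
    rw [hk, ← map_iterateFrobenius_expand, map_expand]
    congr 2
    ext x
    rw [iterateFrobenius_def, h.pow, hk]
  have h2 : expand F q ((M ^ q).charpoly) = M.charpoly ^ q := by
    rw [Matrix.charpoly, Matrix.charpoly, AlgHom.map_det, ← Matrix.det_pow]
    congr 1
    refine matPolyEquiv.injective ?_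
    rw [map_pow, matPolyEquiv_charmatrix, hk, sub_pow_char_pow_of_commute, ← C_pow]
    on_goal 2 => exact (C M).commute_X
    exact matPolyEquiv_eq_X_pow_sub_C (p ^ k) M
  exact expand_injective hq (h2.trans h1.symm)

/-- A semisimple element of order divisible by the cofactor. -/
theorem exists_singer (hF : Fintype.card F = q ^ 2) (h : UFrob σ q) {d : ℕ} (hd : 0 < d) :
    ∃ A : Cfsg.SU d F q, cof q d ∣ orderOf A := by
  classical
  obtain ⟨p, hp⟩ := CharP.exists F
  haveI := Fact.mk (CharP.char_is_prime F p)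
  obtain ⟨k, hk⟩ := exists_prime_pow hF p
  have hq2 : 2 ≤ q := by
    by_contra hq
    have := Fintype.one_lt_card (α := F)
    rw [hF] at this
    interval_cases q <;> simp at this
  have hq1 : 1 ≤ q := by omega
  rcases Nat.even_or_odd d with ⟨m, rfl⟩ | hodd
  · -- even degree: a hyperbolic torus
    haveI : NeZero m := ⟨by omega⟩
    let L := FiniteField.Extension F p m
    let b := (Module.finBasis F L).reindex (finCongr (FiniteField.finrank_extension F p m))
    obtain ⟨ω, hω⟩ := IsCyclic.exists_ofOrder_eq_natCard (α := Lˣ)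
    have hc := cof_mul hq1 (m + m)
    rw [if_pos ⟨m, rfl⟩] at hc
    rw [Nat.card_units, FiniteField.natCard_extension, Nat.card_eq_fintype_card, hF, ← pow_mul q 2 m,
      show 2 * m = m + m by omega, ← hc] at hω
    set u := ω ^ (q + 1) with hu
    have huord : orderOf u = cof q (m + m) := by
      rw [hu, orderOf_pow_of_dvd (Nat.succ_ne_zero q) (hω ▸ dvd_mul_right _ _), hω,
        Nat.mul_div_cancel_left _ (Nat.succ_pos q)]
    set A := Algebra.leftMulMatrix b (u : L) with hA
    have hdet : A.det = Algebra.norm F (u : L) := (Algebra.norm_eq_matrix_det b _).symm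
    have hAu : IsUnit A.det := hdet ▸ (u.isUnit.map (Algebra.norm F))
    have hfix : σ A.det = A.det := by
      set N := Units.map (Algebra.norm F : L →* F) ω with hN
      have h1 : ((N : F)) ^ (q ^ 2 - 1) = 1 := by
        rw [← hF]; exact FiniteField.pow_card_sub_one_eq_one _ N.ne_zero
      have h2 : A.det = (N : F) ^ (q + 1) := by
        rw [hdet, hu, Units.val_pow_eq_pow_val, map_pow]; rfl
      rw [h2, h.pow, ← pow_mul]
      conv_lhs => rw [show (q + 1) * q = (q ^ 2 - 1) + (q + 1) by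
        have : q ^ 2 - 1 = (q + 1) * (q - 1) := by simpa using Nat.sq_sub_sq q 1
        rw [this, ← Nat.mul_add_one, Nat.sub_add_cancel hq1]]
      rw [pow_add, h1, one_mul]
    obtain ⟨g, C, C', hC, hg⟩ := exists_hyper h A hAu hfix
    refine ⟨g, huord ▸ orderOf_dvd_of_pow_eq_one ?_⟩
    set j := orderOf g
    have h0 : g.1.1 ^ j = 1 := (su_pow_eq_one_iff g j).1 (pow_orderOf_eq_one g)
    have hpow : ∀ i, (C * fromBlocks A 0 0 (A⁻¹.map σ)ᵀ * C') ^ i =
        C * (fromBlocks A 0 0 (A⁻¹.map σ)ᵀ) ^ i * C' := by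
      intro i
      induction i with
      | zero => rw [pow_zero, pow_zero, mul_one, mul_eq_one_comm.1 hC]
      | succ i ih =>
        rw [pow_succ, ih, pow_succ]
        simp only [mul_assoc]
        rw [← mul_assoc C' C, hC, one_mul]
    rw [hg, ← map_pow, hpow, map_eq_one_iff _ (Matrix.reindexAlgEquiv F F (finSumFinEquiv (m := m) (n := m))).injective,
      fromBlocks_diagonal_pow] at h0
    have h1 := congrArg (fun M => C' * M * C) h0
    simp only [mul_assoc, hC, mul_one] at h1
    simp only [← mul_assoc, hC, one_mul] at h1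
    rw [← fromBlocks_one, fromBlocks_inj] at h1
    have h2 : Algebra.leftMulMatrix b ((u : L) ^ j) = 1 := by rw [map_pow]; exact h1.1
    exact Units.ext (by
      rw [Units.val_pow_eq_pow_val, Units.val_one]
      exact Algebra.leftMulMatrix_injective b (h2.trans (map_one _).symm))
  · -- odd degree
    haveI : NeZero d := ⟨hd.ne'⟩
    let L := FiniteField.Extension F p d
    let b := (Module.finBasis F L).reindex (finCongr (FiniteField.finrank_extension F p d))
    obtain ⟨ω, hω⟩ := IsCyclic.exists_ofOrder_eq_natCard (α := Lˣ)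
    rw [Nat.card_units, FiniteField.natCard_extension, Nat.card_eq_fintype_card, hF, ← pow_mul q 2 d] at hω
    set c := cof q d with hc
    have hcm : (q + 1) * c = q ^ d + 1 := by
      rw [hc, cof_mul hq1, if_neg (Nat.not_even_iff_odd.2 hodd)]
    have hN : q ^ (2 * d) - 1 = (q ^ d + 1) * (q ^ d - 1) := by
      rw [mul_comm 2 d, pow_mul]; simpa using Nat.sq_sub_sq (q ^ d) 1
    obtain ⟨G, hG⟩ : q - 1 ∣ q ^ d - 1 := by simpa using Nat.sub_dvd_pow_sub_pow q 1 d
    have hq21 : q ^ 2 - 1 = (q + 1) * (q - 1) := by simpa using Nat.sq_sub_sq q 1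
    have hpos : 0 < (q + 1) * (q ^ d - 1) := Nat.mul_pos (Nat.succ_pos q) (Nat.sub_pos_of_lt (Nat.one_lt_pow hd.ne' hq2))
    have hcpos : 0 < c := Nat.pos_of_ne_zero fun h0 => by rw [h0, mul_zero] at hcm; omega
    set u := ω ^ ((q + 1) * (q ^ d - 1)) with hu
    have huord : orderOf u = c := by
      rw [hu, orderOf_pow_of_dvd hpos.ne' (hω ▸ hN ▸ ⟨c, by rw [← hcm]; ring⟩), hω, hN, ← hcm,
        show (q + 1) * c * (q ^ d - 1) = (q + 1) * (q ^ d - 1) * c by ring, Nat.mul_div_cancel_left _ hpos]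
    have huc : u ^ c = 1 := huord ▸ pow_orderOf_eq_one u
    set M := Algebra.leftMulMatrix b (u : L) with hM
    have hMd : M.det = 1 := by
      rw [hM, ← Algebra.norm_eq_matrix_det b]
      refine (algebraMap F L).injective ?_
      rw [FiniteField.algebraMap_norm_eq_pow, FiniteField.natCard_extension, Nat.card_eq_fintype_card, hF, ← pow_mul,
        map_one, hN, ← hcm, hG, hq21, show (q + 1) * c * ((q - 1) * G) = (q + 1) * (q - 1) * (c * G) by ring,
        Nat.mul_div_cancel_left _ (Nat.mul_pos (Nat.succ_pos q) (by omega)), pow_mul, ← Units.val_pow_eq_pow_val,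
        huc, Units.val_one, one_pow]
    obtain ⟨i, rfl⟩ := hodd
    have hMinv : M ^ (q ^ (2 * i + 1)) * M = 1 := by
      rw [← pow_succ, ← hcm, hM, ← map_pow, ← Units.val_pow_eq_pow_val, mul_comm (q + 1), pow_mul, huc, one_pow,
        Units.val_one, map_one]
    set f := M.charpoly with hf
    have hQ : ∀ j, (M ^ (Fintype.card F ^ j)).charpoly = f := by
      intro j
      induction j with
      | zero => rw [pow_zero, pow_one]
      | succ j ih => rw [pow_succ, pow_mul, FiniteField.Matrix.charpoly_pow_card, ih]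
    have hfA : (adj σ (M ^ (q ^ (2 * i + 1)))).charpoly = f := by
      rw [adj, Matrix.charpoly_transpose, Matrix.charpoly_map, pow_succ q, pow_mul M, charpoly_pow h p hk,
        show q ^ (2 * i) = Fintype.card F ^ i by rw [hF, pow_mul], hQ, map_map h.invol]
    have hsd : SelfDual σ f := by
      have h1 := reverse_charpoly_of_adj (σ := σ) (A := adj σ (M ^ (q ^ (2 * i + 1)))) (B := M)
        (by rw [(isInvol_adj h.invol).invol]; exact hMinv)
      rwa [hfA] at h1
    have hf0 : f.coeff 0 ≠ 0 := fun h0 => by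
      rw [Matrix.det_eq_sign_charpoly_coeff, ← hf, h0, mul_zero] at hMd
      exact zero_ne_one hMd
    have hσ : σ ≠ RingHom.id F := h.ne
    obtain ⟨g, hg, -, hgf⟩ := exists_unitary (n := 2 * i + 1) p hσ h.invol (Matrix.charpoly_monic M)
      (by rw [Matrix.charpoly_natDegree_eq_dim, Fintype.card_fin]) hf0 hsd
    have hgd : (g : Matrix (Fin (2 * i + 1)) (Fin (2 * i + 1)) F).det = 1 := by
      refine Eq.trans ?_ hMd
      rw [Matrix.det_eq_sign_charpoly_coeff, Matrix.det_eq_sign_charpoly_coeff M, hgf]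
    have hmem : (⟨g.1, hgd⟩ : Matrix.SpecialLinearGroup (Fin (2 * i + 1)) F) ∈ Cfsg.SU (2 * i + 1) F q :=
      mem_SU_of_mul h (by
        have e := congrArg Matrix.transpose hg
        rwa [Matrix.transpose_mul, adj, Matrix.transpose_transpose, Matrix.transpose_one] at e)
    refine ⟨⟨_, hmem⟩, huord ▸ orderOf_dvd_of_pow_eq_one ?_⟩
    set j := orderOf (⟨⟨g.1, hgd⟩, hmem⟩ : Cfsg.SU (2 * i + 1) F q)
    have h0 : g.1 ^ j = 1 := (su_pow_eq_one_iff _ j).1 (pow_orderOf_eq_one _)
    haveI : Module.Finite F L := Module.Finite.of_basis b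
    have hirr : Irreducible (minpoly F (u : L)) := minpoly.irreducible (Algebra.IsIntegral.isIntegral _)
    have hdvd : minpoly F (u : L) ∣ f := by
      refine minpoly.dvd F _ (Algebra.leftMulMatrix_injective b ?_)
      rw [← aeval_algHom_apply, map_zero]
      exact Matrix.aeval_self_charpoly M
    have h2 := Semisimple.dvd_minpoly_of_dvd_charpoly (Matrix.toLin' g.1) hirr
      (by rw [Matrix.charpoly_toLin', hgf]; exact hdvd)
    have h3 : minpoly F (u : L) ∣ X ^ j - 1 := h2.trans (by
      refine minpoly.dvd F _ ?_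
      rw [show Matrix.toLin' g.1 = Matrix.toLinAlgEquiv' g.1 from rfl, aeval_algHom_apply, map_sub, map_pow,
        aeval_X, map_one, h0, sub_self, map_zero])
    obtain ⟨w, hw⟩ := h3
    have h4 := congrArg (aeval (u : L)) hw
    rw [map_mul, minpoly.aeval, zero_mul, map_sub, map_pow, aeval_X, map_one, sub_eq_zero] at h4
    exact Units.ext (by rw [Units.val_pow_eq_pow_val, h4, Units.val_one])

/-- A unipotent element of the largest order, with a fixed vector. -/
theorem exists_unipotent (hF : Fintype.card F = q ^ 2) (h : UFrob σ q) (p : ℕ) [Fact p.Prime] [CharP F p]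
    {d : ℕ} (hd : 0 < d) :
    ∃ U : Cfsg.SU d F q, p ^ Nat.clog p d ∣ orderOf U ∧ ∃ v : Fin d → F, v ≠ 0 ∧ U.1.1 *ᵥ v = v := by
  classical
  haveI : Nonempty (Fin d) := ⟨⟨0, hd⟩⟩
  set N := CfsgLib.KnownA.shiftMat F d with hN
  have hNd : N ^ d = 0 := by
    ext i j
    rw [hN, CfsgLib.KnownA.shiftMat_pow, Matrix.of_apply, if_neg (by have := j.2; omega), Matrix.zero_apply]
  have hrank : N.rank = d - 1 := by
    refine le_antisymm ?_ ?_
    · by_contra hlt
      have hr : N.rank = d := by
        have := Matrix.rank_le_height N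
        omega
      have hsurj : LinearMap.range N.mulVecLin = ⊤ :=
        Submodule.eq_top_of_finrank_eq (by rw [Module.finrank_fin_fun]; exact hr)
      have hu : IsUnit N := Matrix.mulVec_surjective_iff_isUnit.1 (LinearMap.range_eq_top.1 hsurj)
      have := hu.pow d
      rw [hNd] at this
      exact not_isUnit_zero this
    · refine le_of_eq_of_le ?_ (Matrix.rank_submatrix_le N (fun i : Fin (d - 1) => (⟨i, by omega⟩ : Fin d))
        (fun i : Fin (d - 1) => (⟨i + 1, by omega⟩ : Fin d)))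
      rw [show N.submatrix _ _ = (1 : Matrix (Fin (d - 1)) (Fin (d - 1)) F) by
        ext i j
        simp [hN, CfsgLib.KnownA.shiftMat, Matrix.one_apply, Fin.ext_iff, eq_comm], Matrix.rank_one, Fintype.card_fin]
  obtain ⟨u, hu, hne⟩ : ∃ u : GL (Fin d) F, (u : Matrix (Fin d) (Fin d) F) = 1 + N ∧ N ^ (d - 1) ≠ 0 := by
    refine ⟨(IsNilpotent.isUnit_one_add ⟨d, hNd⟩).unit, rfl, fun h0 => ?_⟩
    rw [hN, CfsgLib.KnownA.shiftMat_pow] at h0
    have := congrFun (congrFun h0 ⟨0, hd⟩) ⟨d - 1, by omega⟩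
    simp at this
  have hfixσ : (u : Matrix (Fin d) (Fin d) F).map σ = u := by
    rw [hu, hN]; ext i j
    simp [CfsgLib.KnownA.shiftMat, Matrix.one_apply, apply_ite σ]
  set U₀ := (u : Matrix (Fin d) (Fin d) F) with hU₀
  set V₀ := (((u⁻¹ : GL (Fin d) F) : Matrix (Fin d) (Fin d) F))ᵀ with hV
  have hVU : U₀ᵀ * V₀ = 1 := by rw [hV, ← Matrix.transpose_mul, u.inv_mul, Matrix.transpose_one]
  have hreg : Regular.IsRegularUnip U₀ := by
    rw [Regular.IsRegularUnip, hu, add_sub_cancel_left]; exact ⟨hNd, hrank⟩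
  have hreg' : Regular.IsRegularUnip V₀ := by
    have e1 : V₀ - 1 = -(Nᵀ * V₀) := by
      have := hVU
      rw [hu, Matrix.transpose_add, Matrix.transpose_one] at this
      rw [add_mul, one_mul] at this
      conv_lhs => rw [← this]
      abel
    have hVu : IsUnit V₀ := IsUnit.of_mul_eq_one_right _ hVU
    constructor
    · have hc : Commute Nᵀ V₀ := by
        have : Commute U₀ᵀ V₀ := by
          show U₀ᵀ * V₀ = V₀ * U₀ᵀ
          rw [hVU, mul_eq_one_comm.1 hVU]
        rw [hu, Matrix.transpose_add, Matrix.transpose_one] at this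
        simpa using this.sub_left (Commute.one_left V₀)
      rw [e1, neg_pow, hc.mul_pow, ← Matrix.transpose_pow, hNd, Matrix.transpose_zero, zero_mul, mul_zero]
    · rw [e1, show -(Nᵀ * V₀) = Nᵀ * -V₀ from (Matrix.mul_neg _ _).symm, Matrix.rank_mul_eq_left_of_isUnit_det _ _
        ((Matrix.isUnit_iff_isUnit_det _).1 hVu.neg), Matrix.rank_transpose, hrank]
  obtain ⟨P, hP⟩ := Regular.exists_conj hreg hreg' hd
  have hσ : σ ≠ RingHom.id F := h.ne
  obtain ⟨D, hD⟩ := exists_unitary_conj hσ h.invol (A := u) (P := P) (by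
    rw [adj, hfixσ, mul_assoc, hP, ← mul_assoc, hVU, one_mul])
  set W : GL (Fin d) F := D * u * D⁻¹ with hW
  have hord : orderOf W = p ^ Nat.clog p d := by
    rw [hW, ← MulAut.conj_apply, MulEquiv.orderOf_eq]
    refine CfsgLib.KnownA.orderOf_unipotent_eq p u ?_ ?_
    · rw [← hU₀, hu, add_sub_cancel_left]; exact ⟨d, hNd⟩
    · rw [← hU₀, hu, add_sub_cancel_left]; exact hne
  have hdet : (W : Matrix (Fin d) (Fin d) F).det = 1 := by
    refine iterateFrobenius_inj F p (Nat.clog p d) ?_
    rw [iterateFrobenius_def, iterateFrobenius_def, one_pow, ← Matrix.det_pow, ← Units.val_pow_eq_pow_val,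
      ← hord, pow_orderOf_eq_one, Units.val_one, Matrix.det_one]
  have hmem : (⟨W.1, hdet⟩ : Matrix.SpecialLinearGroup (Fin d) F) ∈ Cfsg.SU d F q :=
    mem_SU_of_mul h (by
      have e := congrArg Matrix.transpose hD
      rwa [Matrix.transpose_mul, adj, Matrix.transpose_transpose, Matrix.transpose_one] at e)
  refine ⟨⟨_, hmem⟩, ?_, D.1 *ᵥ Pi.single ⟨0, hd⟩ 1, ?_, ?_⟩
  · rw [← hord]
    refine orderOf_dvd_of_pow_eq_one (Units.ext ?_)
    rw [Units.val_pow_eq_pow_val, Units.val_one]
    exact (su_pow_eq_one_iff _ _).1 (pow_orderOf_eq_one (⟨⟨W.1, hdet⟩, hmem⟩ : Cfsg.SU d F q))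
  · intro h0
    have := congrArg (fun v => (D⁻¹ : GL (Fin d) F).1 *ᵥ v) h0
    simp only [Matrix.mulVec_mulVec, D.inv_mul, Matrix.one_mulVec, Matrix.mulVec_zero] at this
    simpa using congrFun this ⟨0, hd⟩
  · show W.1 *ᵥ _ = _
    rw [hW, Units.val_mul, Units.val_mul, ← Matrix.mulVec_mulVec, ← Matrix.mulVec_mulVec,
      Matrix.mulVec_mulVec (Pi.single _ _) (D⁻¹ : GL (Fin d) F).1, D.inv_mul, Matrix.one_mulVec]
    congr 1
    rw [← hU₀, hu, Matrix.add_mulVec, Matrix.one_mulVec, add_eq_left]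
    ext i
    simp [hN, CfsgLib.KnownA.shiftMat, Matrix.mulVec_single]

end CfsgLib.KnownB.PSUOrders
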