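import Cfsg.Agent.Lib.KnownB.PSUOrders.Basic
import Cfsg.Agent.Lib.KnownB.UnitaryCharpoly
import Cfsg.Agent.S2496

/-!
The three kinds of element orders of `PSU n` relative to a prime divisor of `q + 1` prime to `n`.
-/

set_option autoImplicit false

namespace CfsgLib.KnownB.PSUOrders

open Polynomial Matrix CfsgLib.Classical CfsgLib.Classical.Unitary CfsgLib.KnownB.UnitaryEigen
  CfsgLib.KnownB.PrimeGraph
open Cfsg.Agent.S2496 (cof cof_mul dvd_cof_iff)

universe u

variable {F : Type u} [Field F] [Fintype F] {σ : F →+* F} {q n : ℕ}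

/-- Reversal twisted by `σ`. -/
noncomputable def twRev (σ : F →+* F) (P : F[X]) : F[X] := (P.map σ).reverse

theorem twRev_mul (P R : F[X]) : twRev σ (P * R) = twRev σ P * twRev σ R := by
  rw [twRev, Polynomial.map_mul, reverse_mul_of_domain]; rfl

theorem twRev_pow (P : F[X]) (e : ℕ) : twRev σ (P ^ e) = twRev σ P ^ e := by
  induction e with
  | zero => rw [pow_zero, pow_zero, twRev, Polynomial.map_one, ← C_1, reverse_C]
  | succ e ih => rw [pow_succ, pow_succ, twRev_mul, ih]

theorem twRev_dvd {P R : F[X]} (hd : P ∣ R) : twRev σ P ∣ twRev σ R := by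
  obtain ⟨c, rfl⟩ := hd
  exact ⟨_, twRev_mul P c⟩

theorem twRev_twRev (h : UFrob σ q) {P : F[X]} (hP : P.coeff 0 ≠ 0) : twRev σ (twRev σ P) = P := by
  rw [twRev, twRev, ← UnitaryCharpoly.reverse_map, UnitaryCharpoly.map_map h.invol,
    UnitaryCharpoly.reverse_reverse hP]

theorem twRev_associated_dual {f : F[X]} (hf0 : f.coeff 0 ≠ 0) : Associated (twRev σ f) (dualM σ f) :=
  (associated_revM (map_coeff_zero_ne hf0)).symm

theorem aeval_reverse_key {A : Type*} [Ring A] [Algebra F A] (a b : A) (hab : a * b = 1) (f : F[X]) :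
    aeval a f.reverse = a ^ f.natDegree * aeval b f := by
  have hpow : ∀ j, a ^ j * b ^ j = 1 := by
    intro j
    induction j with
    | zero => simp
    | succ j ih => rw [pow_succ, pow_succ', mul_assoc, ← mul_assoc a b, hab, one_mul, ih]
  rw [Polynomial.aeval_eq_sum_range' (p := f.reverse) (n := f.natDegree + 1)
      (Nat.lt_succ_of_le (reverse_natDegree_le f)), aeval_eq_sum_range (p := f), Finset.mul_sum, reverse]
  rw [← Finset.sum_range_reflect]
  refine Finset.sum_congr rfl fun i hi => ?_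
  have hi' : i ≤ f.natDegree := Nat.lt_succ_iff.1 (Finset.mem_range.1 hi)
  rw [Nat.add_sub_cancel, coeff_reflect, revAt_le (Nat.sub_le _ _), Nat.sub_sub_self hi', mul_smul_comm]
  congr 1
  conv_rhs => rw [show f.natDegree = f.natDegree - i + i by omega, pow_add, mul_assoc, hpow, mul_one]

theorem adjoint_eq (h : UFrob σ q) {A : Matrix (Fin n) (Fin n) F} (hA : Aᵀ * A.map σ = 1) :
    A * (A.map σ)ᵀ = 1 := by
  refine mul_eq_one_comm.1 ?_
  have e := congrArg (fun M => M.map σ) hA
  simp only [Matrix.map_mul, ← Matrix.transpose_map] at e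
  have hss : (A.map σ).map σ = A := by ext i j; simp [h.invol]
  rw [hss, Matrix.map_one σ (map_zero σ) (map_one σ)] at e
  exact e

theorem charpoly_dual (h : UFrob σ q) {A : Matrix (Fin n) (Fin n) F} (hA : Aᵀ * A.map σ = 1) :
    A.charpoly.coeff 0 ≠ 0 ∧ Associated (twRev σ A.charpoly) A.charpoly := by
  have hAB := mul_eq_one_comm.1 (adjoint_eq h hA)
  have h0 : A.charpoly.coeff 0 ≠ 0 := fun h0 => by
    have h1 := congrArg Matrix.det hAB
    rw [Matrix.det_mul, Matrix.det_eq_sign_charpoly_coeff A, h0, mul_zero, mul_zero, Matrix.det_one] at h1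
    exact zero_ne_one h1
  refine ⟨h0, ?_⟩
  have h1 := UnitaryCharpoly.reverse_charpoly_of_adj (σ := σ) (A := A) (B := A) hAB
  rw [twRev, UnitaryCharpoly.reverse_map, h1, Polynomial.map_mul, Polynomial.map_C,
    UnitaryCharpoly.map_map h.invol]
  exact associated_unit_mul_left _ _ (isUnit_C.2 ((map_ne_zero σ).2 h0).isUnit)

theorem transfer_dual (h : UFrob σ q) {f : F[X]} {N : ℕ} (hN : 0 < N) {e : F} (he : e * σ e = 1)
    (hd : f ∣ X ^ N - C e) : twRev σ f ∣ X ^ N - C e := by
  have h1 : twRev σ f ∣ twRev σ (X ^ N - C e) := twRev_dvd hd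
  have h2 : twRev σ (X ^ N - C e) = C (-(σ e)) * (X ^ N - C e) := by
    simp only [twRev, Polynomial.map_sub, Polynomial.map_pow, map_X, map_C]
    ext i
    rw [coeff_reverse, natDegree_X_pow_sub_C, coeff_C_mul]
    simp only [coeff_sub, coeff_X_pow, coeff_C]
    rcases lt_trichotomy i N with hi | hi | hi
    · rw [revAt_le hi.le]
      rcases Nat.eq_zero_or_pos i with h0 | h0
      · subst h0; simp [hN.ne', hN.ne, mul_comm (σ e) e, he]
      · simp [show N - i ≠ N by omega, show N - i ≠ 0 by omega, show i ≠ N by omega, h0.ne']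
    · subst hi; simp [revAt_le le_rfl, hN.ne, hN.ne']
    · rw [revAt_eq_self_of_lt hi]; simp [hi.ne', show i ≠ 0 by omega]
  rw [h2] at h1
  refine ((isUnit_C.2 (isUnit_iff_ne_zero.2 (neg_ne_zero.2 fun h0 => ?_))).dvd_mul_left).1 h1
  rw [h0, mul_zero] at he
  exact zero_ne_one he

theorem exists_scalar (hF : Fintype.card F = q ^ 2) (h : UFrob σ q) {f : F[X]} (hf : Irreducible f) {N k : ℕ}
    (hk : k ∣ q + 1) (hα : AdjoinRoot.root f ^ (N * k) = 1) :
    ∃ e : F, e * σ e = 1 ∧ f ∣ X ^ N - C e := by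
  haveI := Fact.mk hf
  haveI : Module.Finite F (AdjoinRoot f) := (AdjoinRoot.powerBasis hf.ne_zero).finite
  haveI : Finite (AdjoinRoot f) := Module.finite_of_finite F
  obtain ⟨e, he⟩ := Cfsg.Agent.S2495.exists_algebraMap (F := F) (x := AdjoinRoot.root f ^ N) (by
    obtain ⟨j, hj⟩ : k ∣ Fintype.card F - 1 :=
      hk.trans ⟨q - 1, by rw [hF]; simpa using Nat.sq_sub_sq q 1⟩
    rw [hj, ← pow_mul, ← mul_assoc, pow_mul, hα, one_pow])
  refine ⟨e, ?_, AdjoinRoot.mk_eq_zero.1 (by
    rw [map_sub, map_pow, AdjoinRoot.mk_X, AdjoinRoot.mk_C, he, AdjoinRoot.algebraMap_eq, sub_self])⟩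
  obtain ⟨j, hj⟩ := hk
  refine (algebraMap F (AdjoinRoot f)).injective ?_
  rw [h.pow, ← pow_succ', map_pow, ← he, map_one, hj, ← pow_mul, ← mul_assoc, pow_mul, hα, one_pow]

/-- A matrix annihilated by a power of `P` becomes scalar. -/
theorem scalar_of_dvd (p : ℕ) [Fact p.Prime] [CharP F p] (A : Matrix (Fin n) (Fin n) F) (hn : 0 < n) {P : F[X]}
    {m k N : ℕ} (hA : aeval A (P ^ m) = 0) (hm : m ≤ p ^ k) {e : F} (hd : P ∣ X ^ N - C e) :
    A ^ (N * p ^ k) = algebraMap F (Matrix (Fin n) (Fin n) F) (e ^ p ^ k) := by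
  haveI : Nonempty (Fin n) := ⟨⟨0, hn⟩⟩
  obtain ⟨g, hg⟩ := pow_dvd_pow_of_dvd hd m
  have h1 : (A ^ N - algebraMap F _ e) ^ m = 0 := by
    have h := congrArg (aeval A) hg
    rw [map_mul, hA, zero_mul] at h
    simpa using h
  have h2 := pow_eq_zero_of_le hm h1
  rw [sub_pow_char_pow_of_commute p k (Algebra.commute_algebraMap_right e _), sub_eq_zero, ← pow_mul,
    ← map_pow] at h2
  exact h2

theorem cof_pos (hq : 2 ≤ q) {d : ℕ} (hd : 0 < d) : 0 < cof q d := by
  refine Nat.pos_of_ne_zero fun h0 => ?_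
  have h1 := cof_mul (q := q) (by omega) d
  rw [h0, mul_zero] at h1
  have h2 := Nat.one_lt_pow hd.ne' hq
  split at h1 <;> omega

/-- Elements fall into three kinds. -/
theorem trichotomy (p : ℕ) [Fact p.Prime] [CharP F p] (hF : Fintype.card F = q ^ 2) (h : UFrob σ q) (hn : 2 ≤ n)
    {r : ℕ} (hr : r.Prime) (hrq : r ∣ q + 1) (hrn : ¬ r ∣ n) (x : Cfsg.PSU n F q) :
    (∃ k : Cfsg.PSU n F q, orderOf x ∣ orderOf k ∧ r ∣ orderOf k) ∨
      orderOf x ∣ cof q n / Nat.gcd n (q + 1) ∨
      ∃ d, 0 < d ∧ d ∣ n ∧ d < n ∧ orderOf x ∣ p ^ Nat.clog p (n / d) * cof q d := by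
  classical
  obtain ⟨g, rfl⟩ := QuotientGroup.mk_surjective x
  set A := g.1.1 with hAdef
  have hAu : Aᵀ * A.map σ = 1 := su_mul h g
  have hAB := adjoint_eq h hAu
  obtain ⟨hQ0, hQdual⟩ := charpoly_dual h hAu
  have hq2 : 2 ≤ q := by
    by_contra hq
    have h1 := Fintype.one_lt_card (α := F)
    rw [hF] at h1
    have h2 : q ^ 2 ≤ 1 ^ 2 := Nat.pow_le_pow_left (by omega) 2
    rw [one_pow] at h2
    omega
  have hq1 : 1 ≤ q := by omega
  set Q := A.charpoly with hQ
  have hQm : Q.Monic := Matrix.charpoly_monic _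
  have hQd : Q.natDegree = n := by rw [hQ, Matrix.charpoly_natDegree_eq_dim, Fintype.card_fin]
  have hQu : ¬ IsUnit Q := fun hu => by
    have := Polynomial.natDegree_eq_zero_of_isUnit hu
    omega
  obtain ⟨f, hfm, hf, hfQ⟩ := Polynomial.exists_monic_irreducible_factor Q hQu
  obtain ⟨m, b, hfb, hQf⟩ := WfDvdMonoid.max_power_factor hQm.ne_zero hf
  have hm : 0 < m := by
    by_contra h0
    rw [Nat.eq_zero_of_not_pos h0, pow_zero, one_mul] at hQf
    exact hfb (hQf ▸ hfQ)
  have hf0 : f.coeff 0 ≠ 0 := coeff_zero_ne_of_dvd hfQ hQ0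
  set f' := dualM σ f with hf'
  have hf'i := irreducible_dualM h hf hf0
  have hf'a := twRev_associated_dual (σ := σ) hf0
  haveI := Fact.mk hf
  haveI : Module.Finite F (AdjoinRoot f) := (AdjoinRoot.powerBasis hf.ne_zero).finite
  haveI : Finite (AdjoinRoot f) := Module.finite_of_finite F
  have hcard := CfsgLib.KnownB.ElementOrders.card_adjoinRoot (F := F) hf.ne_zero
  set α := AdjoinRoot.root f with hα
  have hnorm : Algebra.norm F α = (-1) ^ f.natDegree * f.coeff 0 := by
    have hn' := Algebra.PowerBasis.norm_gen_eq_coeff_zero_minpoly (AdjoinRoot.powerBasis hf.ne_zero)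
    rw [AdjoinRoot.powerBasis_gen, AdjoinRoot.powerBasis_dim, AdjoinRoot.minpoly_root hf.ne_zero,
      hfm.leadingCoeff, inv_one, C_1, mul_one] at hn'
    exact hn'
  -- the self-dual part at `f`
  obtain ⟨P, c, ⟨hPm, hP0⟩, hPd, hPQ, hPc, hPs, hPN⟩ : ∃ (P c : F[X]), (P.Monic ∧ 0 < P.natDegree) ∧
      Associated (twRev σ P) P ∧ Q = P ^ m * c ∧ IsCoprime (P ^ m) c ∧
      (∀ {N : ℕ} {e : F}, 0 < N → e * σ e = 1 → f ∣ X ^ N - C e → P ∣ X ^ N - C e) ∧
      (α ^ ((q + 1) * cof q P.natDegree) = 1 ∧ (m = 1 → c = 1 → α ^ cof q n = 1)) := by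
    by_cases hsp : f' = f
    · obtain ⟨hD, hroot⟩ := self_paired h hF hf hf0 hsp
      refine ⟨f, b, ⟨hfm, hf.natDegree_pos⟩, (by have := hf'a; rwa [show dualM σ f = f from hsp] at this), hQf, ((hf.coprime_iff_not_dvd).2 hfb).pow_left,
        fun _ _ hd => hd, ?_, fun hm1 hc1 => ?_⟩
      · rw [cof_mul hq1, if_neg (Nat.not_even_iff_odd.2 hD)]
        have h' := AdjoinRoot.mk_eq_zero.2 hroot
        rwa [map_sub, map_pow, AdjoinRoot.mk_X, map_one, sub_eq_zero] at h'
      · rw [hm1, pow_one, hc1, mul_one] at hQf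
        have hfd : f.natDegree = n := hQf ▸ hQd
        have hN := FiniteField.algebraMap_norm_eq_pow (K := F) (K' := AdjoinRoot f) (x := α)
        have hdet := Matrix.det_eq_sign_charpoly_coeff A
        rw [show A.det = 1 from g.1.2, Fintype.card_fin, ← hQ, hQf, ← hfd, ← hnorm] at hdet
        rw [← hdet, map_one, hcard, hfd, Nat.card_eq_fintype_card, hF, ← pow_mul] at hN
        have hroot' : α ^ (q ^ n + 1) = 1 := by
          have h' := AdjoinRoot.mk_eq_zero.2 hroot
          rwa [map_sub, map_pow, AdjoinRoot.mk_X, map_one, sub_eq_zero, hfd] at h'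
        have hodd : Odd n := hfd ▸ hD
        obtain ⟨G, hG⟩ : q - 1 ∣ q ^ n - 1 := by simpa using Nat.sub_dvd_pow_sub_pow q 1 n
        have hcm : (q + 1) * cof q n = q ^ n + 1 := by rw [cof_mul hq1, if_neg (Nat.not_even_iff_odd.2 hodd)]
        rw [show (q ^ (2 * n) - 1) / (q ^ 2 - 1) = cof q n * G by
          rw [show q ^ (2 * n) - 1 = (q ^ n + 1) * (q ^ n - 1) by
              rw [mul_comm 2 n, pow_mul]; simpa using Nat.sq_sub_sq (q ^ n) 1,
            show q ^ 2 - 1 = (q + 1) * (q - 1) by simpa using Nat.sq_sub_sq q 1, ← hcm, hG,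
            show (q + 1) * cof q n * ((q - 1) * G) = (q + 1) * (q - 1) * (cof q n * G) by ring,
            Nat.mul_div_cancel_left _ (Nat.mul_pos (Nat.succ_pos q) (by omega))], pow_mul] at hN
        have h1 : (α ^ cof q n) ^ (q + 1) = 1 := by rw [← pow_mul, mul_comm, hcm, hroot']
        have hcop : Nat.Coprime G (q + 1) := by
          have hG' : (G : ZMod (q + 1)) = 1 := by
            have e : G = ∑ i ∈ Finset.range n, q ^ i := by
              refine Nat.eq_of_mul_eq_mul_left (show 0 < q - 1 by omega) ?_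
              rw [← hG, Nat.geomSum_eq hq2 n,
                Nat.mul_div_cancel' (hG ▸ dvd_mul_right _ _)]
            have hq' : (q : ZMod (q + 1)) = -1 := by
              refine eq_neg_of_add_eq_zero_left ?_
              exact_mod_cast ZMod.natCast_self (q + 1)
            rw [e, Nat.cast_sum]
            simp only [Nat.cast_pow, hq']
            rw [neg_one_geom_sum, if_neg (Nat.not_even_iff_odd.2 hodd)]
          exact (ZMod.isUnit_iff_coprime G (q + 1)).1 (hG' ▸ isUnit_one)
        have h2 := pow_gcd_eq_one.2 ⟨hN.symm, h1⟩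
        rwa [Nat.Coprime.gcd_eq_one hcop, pow_one] at h2
    · have hco : IsCoprime f f' := hf.coprime_iff_not_dvd.2 fun hdv =>
        hsp (eq_of_monic_of_associated (revM_monic (map_coeff_zero_ne hf0)) hfm (hf.associated_of_dvd hf'i hdv).symm)
      have hf'Q : f' ^ m ∣ Q := by
        refine (hf'a.symm.pow_pow.dvd).trans ?_
        rw [← twRev_pow]
        exact (twRev_dvd ⟨b, hQf⟩).trans hQdual.dvd
      obtain ⟨c, hc⟩ := (hco.pow (m := m) (n := m)).mul_dvd ⟨b, hQf⟩ hf'Q
      have hf'f : Associated (twRev σ f') f := by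
        obtain ⟨k, hk⟩ : ∃ k, f' = C k * twRev σ f := ⟨_, rfl⟩
        have hk0 : k ≠ 0 := fun h0 => hf'i.ne_zero (hk.trans (by rw [h0, map_zero, zero_mul]))
        rw [hk, twRev_mul, twRev_twRev h hf0,
          show twRev σ (C k) = C (σ k) by rw [twRev, Polynomial.map_C, reverse_C]]
        exact associated_unit_mul_left _ _ (isUnit_C.2 ((map_ne_zero σ).2 hk0).isUnit)
      have hfd' : f'.natDegree = f.natDegree := natDegree_dualM hf0
      have hPd : Associated (twRev σ (f * f')) (f * f') := by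
        rw [twRev_mul, mul_comm f f']; exact hf'a.mul_mul hf'f
      have hfc : ¬ f ∣ c := fun hd => hfb (by
        have e : b = f' ^ m * c := mul_left_cancel₀ (pow_ne_zero m hf.ne_zero) (by rw [← hQf, hc, mul_assoc])
        exact e ▸ hd.mul_left _)
      have hPne : (f * f') ^ m ≠ 0 := pow_ne_zero _ (mul_ne_zero hf.ne_zero hf'i.ne_zero)
      have hcd : Associated (twRev σ c) c := by
        have h1 : Associated (twRev σ ((f * f') ^ m) * twRev σ c) ((f * f') ^ m * c) := by
          rw [← twRev_mul, mul_pow, ← hc]; exact hQdual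
        refine h1.of_mul_left ?_ ?_
        · rw [twRev_pow]; exact hPd.pow_pow
        · rw [twRev_pow]; exact fun h0 => hPne (((hPd.pow_pow (n := m)).eq_zero_iff).1 h0)
      have hf'c : ¬ f' ∣ c := fun hd => hfc (hf'f.symm.dvd.trans ((twRev_dvd hd).trans hcd.dvd))
      have hdeg : (f * f').natDegree = f.natDegree + f.natDegree := by
        rw [natDegree_mul hf.ne_zero hf'i.ne_zero, hfd']
      refine ⟨f * f', c, ⟨hfm.mul (revM_monic (map_coeff_zero_ne hf0)), by rw [hdeg]; have := hf.natDegree_pos; omega⟩, hPd, by rw [mul_pow, hc],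
        ((hf.coprime_iff_not_dvd.2 hfc).mul_left (hf'i.coprime_iff_not_dvd.2 hf'c)).pow_left,
        fun hN he hd => hco.mul_dvd hd (hf'a.symm.dvd.trans (transfer_dual h hN he hd)), ?_, fun hm1 hc1 => ?_⟩
      · rw [hdeg, cof_mul hq1, if_pos ⟨_, rfl⟩, ← two_mul, pow_mul, ← hF,
          ← show Nat.card (AdjoinRoot f) = Fintype.card F ^ f.natDegree from hcard, ← Nat.card_units]
        have hα0 : α ≠ 0 := fun h0 => by
          have h1 : f ∣ X := AdjoinRoot.mk_eq_zero.1 (by rw [AdjoinRoot.mk_X]; exact h0)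
          exact hf0 (X_dvd_iff.1 ((hf.associated_of_dvd irreducible_X h1).symm.dvd))
        exact congrArg Units.val (pow_card_eq_one' (x := Units.mk0 α hα0))
      · rw [hm1, pow_one, pow_one, hc1, mul_one] at hc
        have hnd : n = 2 * f.natDegree := by rw [← hQd, hc, hdeg, two_mul]
        set D := f.natDegree with hD
        have hfix : σ (f.coeff 0) = f.coeff 0 := by
          have hd' := Matrix.det_eq_sign_charpoly_coeff A
          rw [show A.det = 1 from g.1.2, Fintype.card_fin, ← hQ, hc, mul_coeff_zero, hf', coeff_zero_dualM hfm,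
            show ((-1 : F)) ^ n = 1 from Even.neg_one_pow ⟨D, by omega⟩, one_mul, ← div_eq_mul_inv, eq_comm,
            div_eq_one_iff_eq ((map_ne_zero σ).2 hf0)] at hd'
          exact hd'.symm
        have hN := FiniteField.algebraMap_norm_eq_pow (K := F) (K' := AdjoinRoot f) (x := α)
        rw [hcard, Nat.card_eq_fintype_card, hF, ← pow_mul, ← hnd] at hN
        have hNq : (Algebra.norm F α) ^ (q - 1) = 1 := by
          have h0 : Algebra.norm F α ≠ 0 := by
            rw [hnorm]; exact mul_ne_zero (pow_ne_zero _ (neg_ne_zero.2 one_ne_zero)) hf0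
          refine mul_right_cancel₀ h0 ?_
          rw [← pow_succ, Nat.sub_add_cancel hq1, one_mul, ← h.pow, hnorm, map_mul, map_pow, map_neg, map_one, hfix]
        obtain ⟨J, hJ⟩ : q ^ 2 - 1 ∣ q ^ n - 1 := by
          rw [hnd, pow_mul]; simpa using Nat.sub_dvd_pow_sub_pow (q ^ 2) 1 D
        have hq21 : q ^ 2 - 1 = (q + 1) * (q - 1) := by simpa using Nat.sq_sub_sq q 1
        have hcm : cof q n = J * (q - 1) := by
          refine Nat.eq_of_mul_eq_mul_left (Nat.succ_pos q) ?_
          rw [Nat.succ_eq_add_one, cof_mul hq1, if_pos ⟨D, by omega⟩, hJ, hq21]; ring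
        rw [hJ, Nat.mul_div_cancel_left _ (hq21 ▸ Nat.mul_pos (Nat.succ_pos q) (by omega))] at hN
        rw [hcm, pow_mul, ← hN, ← map_pow, hNq, map_one]
  set δ := P.natDegree with hδ
  by_cases hcu : IsUnit c
  · right
    have hPne : P ≠ 0 := fun h0 => by rw [hδ, h0, natDegree_zero] at hP0; exact lt_irrefl 0 hP0
    have hdn : m * δ = n := by
      rw [← hQd, hPQ, natDegree_mul (pow_ne_zero _ hPne) hcu.ne_zero, natDegree_eq_zero_of_isUnit hcu, add_zero,
        natDegree_pow]
    have hA : aeval A (P ^ m) = 0 := by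
      obtain ⟨u, hu⟩ := hcu
      rw [show P ^ m = Q * ↑u⁻¹ by rw [hPQ, ← hu, mul_assoc, Units.mul_inv, mul_one], map_mul,
        Matrix.aeval_self_charpoly, zero_mul]
    rcases (Nat.le_of_dvd (by omega) (hdn ▸ dvd_mul_left δ m)).lt_or_eq with hlt | heq
    · right
      refine ⟨δ, hP0, hdn ▸ dvd_mul_left δ m, hlt, ?_⟩
      obtain ⟨e, he, hd⟩ := exists_scalar hF h hf (N := cof q δ) dvd_rfl (by rw [mul_comm]; exact hPN.1)
      have hs := scalar_of_dvd p A (by omega) hA (k := Nat.clog p (n / δ))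
        (by rw [← hdn, Nat.mul_div_cancel _ hP0]; exact Nat.le_pow_clog (Fact.out : p.Prime).one_lt m)
        (hPs (cof_pos hq2 hP0) he hd)
      rw [mul_comm]
      exact orderOf_dvd_of_pow_eq_one (mk_pow_of_scalar hs)
    · left
      have hm1 : m = 1 := by
        rw [heq] at hdn
        exact Nat.eq_of_mul_eq_mul_right (show 0 < n by omega) (hdn.trans (one_mul n).symm)
      have hc1 : c = 1 := by
        obtain ⟨u, hu⟩ := hcu
        obtain ⟨a, -, ha⟩ := Polynomial.isUnit_iff.1 u.isUnit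
        have hl := congrArg leadingCoeff hPQ
        rw [hQm.leadingCoeff, leadingCoeff_mul, ← hu, ← ha, leadingCoeff_C, hm1, pow_one] at hl
        rw [hPm.leadingCoeff, one_mul] at hl
        rw [← hu, ← ha, ← hl, C_1]
      have hT := hPN.2 hm1 hc1
      obtain ⟨j, hj⟩ : Nat.gcd n (q + 1) ∣ cof q n :=
        (dvd_cof_iff hq1 (Nat.gcd_dvd_right _ _)).2 (Nat.gcd_dvd_left _ _)
      have hg0 : 0 < Nat.gcd n (q + 1) := Nat.gcd_pos_of_pos_left _ (by omega)
      rw [hj, Nat.mul_div_cancel_left _ hg0]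
      obtain ⟨e, he, hd⟩ := exists_scalar hF h hf (N := j) (Nat.gcd_dvd_right n (q + 1))
        (by rw [mul_comm, ← hj]; exact hT)
      have hj0 : 0 < j := by
        have := cof_pos hq2 (show 0 < n by omega)
        rw [hj] at this
        exact Nat.pos_of_mul_pos_left this
      have hs := scalar_of_dvd p A (by omega) hA (k := 0) (by rw [hm1, pow_zero]) (hPs hj0 he hd)
      rw [pow_zero, mul_one] at hs
      exact orderOf_dvd_of_pow_eq_one (mk_pow_of_scalar hs)
  · left
    set a := P ^ m with ha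
    obtain ⟨u, v, huv⟩ := hPc
    let E := aeval A (v * c)
    let B := (A.map σ)ᵀ
    have hQA : aeval A Q = 0 := Matrix.aeval_self_charpoly A
    have hE : E * E = E := by
      have e : v * c * (v * c) = v * c - u * v * (a * c) := by linear_combination (v * c) * huv
      change aeval A (v * c) * aeval A (v * c) = aeval A (v * c)
      rw [← map_mul (aeval A) (v * c) (v * c), e, map_sub, ← hPQ, map_mul (aeval A) (u * v) Q, hQA, mul_zero,
        sub_zero]
    have key : ∀ a c w z : F[X], ¬ IsUnit a → a * c = Q → w * a + z * c = 1 → aeval A (z * c) ≠ 0 := by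
      intro a c w z ha hac hwz h0
      obtain ⟨π, hπm, hπ, hπa⟩ := Polynomial.exists_monic_irreducible_factor a ha
      have h1 := Semisimple.dvd_minpoly_of_dvd_charpoly (Matrix.toLin' A) hπ
        (by rw [Matrix.charpoly_toLin', ← hQ, ← hac]; exact hπa.mul_right c)
      have h2 : π ∣ z * c := h1.trans (by
        refine minpoly.dvd F _ ?_
        rw [show Matrix.toLin' A = Matrix.toLinAlgEquiv' A from rfl, aeval_algHom_apply, h0, map_zero])
      exact hπ.not_dvd_one (hwz ▸ dvd_add (hπa.mul_left w) h2)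
    have hau : ¬ IsUnit a := fun hu => by
      have := natDegree_eq_zero_of_isUnit hu
      rw [ha, natDegree_pow] at this
      exact (Nat.mul_pos hm hP0).ne' this
    have hE0 : E ≠ 0 := key a c u v hau hPQ.symm huv
    have hE1 : E ≠ 1 := by
      intro h1
      refine key c a v u hcu (by rw [mul_comm, hPQ]) (by rw [add_comm, huv]) ?_
      rw [show u * a = 1 - v * c by linear_combination huv, map_sub, map_one]
      exact sub_eq_zero.2 h1.symm
    have hsd : Associated (twRev σ c) c := by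
      have h1 : Associated (twRev σ a * twRev σ c) (a * c) := by rw [← twRev_mul, ← hPQ]; exact hQdual
      have h2 : Associated (twRev σ a) a := by rw [ha, twRev_pow]; exact hPd.pow_pow
      refine h1.of_mul_left h2 (fun h0 => ?_)
      have : a = 0 := (h2.eq_zero_iff).1 h0
      exact hQm.ne_zero (by rw [hPQ, this, zero_mul])
    have hadj : ∀ R : F[X], ((aeval A R).map σ)ᵀ = aeval B (R.map σ) := fun R => by
      rw [aeval_transpose, UnitaryEigen.aeval_map]
    have hprod : (E.map σ)ᵀ * (1 - E) = 0 := by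
      have h0 : aeval B (c.map σ) * aeval A (u * a) = 0 := by
        obtain ⟨w, hw⟩ := hsd.symm.dvd
        have hz : aeval A (twRev σ c * (u * a)) = 0 := by
          rw [hw, show c * w * (u * a) = (a * c) * (w * u) by ring, ← hPQ, map_mul, hQA, zero_mul]
        rw [map_mul, twRev, aeval_reverse_key A B hAB] at hz
        have hBA : B * A = 1 := mul_eq_one_comm.1 hAB
        have hpow : B ^ (c.map σ).natDegree * A ^ (c.map σ).natDegree = 1 := by
          rw [← (show Commute B A from hBA.trans hAB.symm).mul_pow, hBA, one_pow]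
        have h' := congrArg (B ^ (c.map σ).natDegree * ·) hz
        simp only [mul_zero] at h'
        rwa [← mul_assoc, ← mul_assoc, hpow, one_mul] at h'
      rw [show E = aeval A (v * c) from rfl, hadj, Polynomial.map_mul, map_mul (aeval B),
        show (1 : Matrix (Fin n) (Fin n) F) - aeval A (v * c) = aeval A (u * a) by
          rw [show u * a = 1 - v * c by linear_combination huv, map_sub, map_one], mul_assoc, h0, mul_zero]
    have hsa : Eᵀ = E.map σ := by
      set E' := (E.map σ)ᵀ with hE'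
      have e1 : E' = E' * E := by rw [mul_sub, mul_one, sub_eq_zero] at hprod; exact hprod
      have hinv : ∀ M : Matrix (Fin n) (Fin n) F, ((M.map σ)ᵀ.map σ)ᵀ = M := fun M => by
        ext i j; simp [h.invol]
      have e2 : E = E' * E := by
        have := congrArg (fun M : Matrix (Fin n) (Fin n) F => (M.map σ)ᵀ) e1
        rw [Matrix.map_mul, Matrix.transpose_mul, hE', hinv] at this
        exact this
      have e3 : E' = E := e1.trans e2.symm
      exact (congrArg Matrix.transpose e3).symm.trans (Matrix.transpose_transpose _)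
    have hc : Commute E A := by
      have := (Commute.all (v * c) X).map (aeval A)
      rwa [aeval_X] at this
    obtain ⟨k, hk⟩ := exists_mul_prime hF h hn hr hrq hrn hE hE0 hE1 hsa hc
    exact ⟨k, (Nat.dvd_lcm_left _ _).trans hk, (Nat.dvd_lcm_right _ _).trans hk⟩

end CfsgLib.KnownB.PSUOrders
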