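import Cfsg.Agent.Lib.KnownB.PSUOrders.Tori
import Cfsg.Agent.Lib.KnownB.PSUOrders.Trichotomy

/-!
Representatives covering the three kinds of element orders of `PSU n`.
-/

set_option autoImplicit false

namespace CfsgLib.KnownB.PSUOrders

open Matrix CfsgLib.Classical CfsgLib.Classical.Unitary CfsgLib.KnownB.UnitaryEigen
open Cfsg.Agent.S2496 (cof cof_mul dvd_cof_iff)

universe u

variable {F : Type u} [Field F] [Fintype F] {σ : F →+* F} {q n : ℕ}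

theorem coprime_cof {p : ℕ} [Fact p.Prime] {k : ℕ} (hk : q = p ^ k) (hk0 : 0 < k) (j : ℕ) {d : ℕ} (hd : 0 < d) :
    Nat.Coprime (p ^ j) (cof q d) := by
  have hp : p.Prime := Fact.out
  refine Nat.Coprime.pow_left j (hp.coprime_iff_not_dvd.2 fun hdvd => ?_)
  have hpq : p ∣ q ^ d := dvd_pow (hk ▸ dvd_pow_self p hk0.ne') hd.ne'
  have hq1 : 1 ≤ q := hk ▸ Nat.one_le_pow _ _ hp.pos
  have hq : 1 ≤ q ^ d := Nat.one_le_pow _ _ hq1
  have h1 := (cof_mul hq1 d) ▸ hdvd.mul_left (q + 1)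
  split at h1
  · have h2 := Nat.dvd_sub hpq h1
    rw [Nat.sub_sub_self hq] at h2
    exact hp.ne_one (Nat.dvd_one.1 h2)
  · exact hp.ne_one (Nat.dvd_one.1 ((Nat.dvd_add_right hpq).1 h1))

theorem one_fixed {b : ℕ} (hb : 0 < b) :
    ∃ v : Fin b → F, v ≠ 0 ∧ (1 : Cfsg.SU b F q).1.1 *ᵥ v = v :=
  ⟨fun _ => 1, fun h => one_ne_zero (congrFun h ⟨0, hb⟩), Matrix.one_mulVec _⟩

theorem exists_prime_order (hF : Fintype.card F = q ^ 2) (h : UFrob σ q) (hn : 2 ≤ n) {r : ℕ} (hr : r.Prime)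
    (hrq : r ∣ q + 1) (hrn : ¬ r ∣ n) : ∃ k : Cfsg.PSU n F q, r ∣ orderOf k := by
  obtain ⟨g, -, hg⟩ := exists_blocks hF h hn (show 1 + (n - 1) = n by omega)
    (1 : Cfsg.SU 1 F q) (1 : Cfsg.SU (n - 1) F q)
  obtain ⟨E, h1, h2, h3, h4, h5⟩ := hg one_pos (by omega)
  obtain ⟨k, hk⟩ := exists_mul_prime hF h hn hr hrq hrn h1 h2 h3 h4 h5
  exact ⟨k, (Nat.dvd_lcm_right _ _).trans hk⟩

theorem exists_torus_order (hF : Fintype.card F = q ^ 2) (h : UFrob σ q) (hn : 2 ≤ n) :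
    ∃ k : Cfsg.PSU n F q, cof q n / Nat.gcd n (q + 1) ∣ orderOf k := by
  obtain ⟨A, hA⟩ := exists_singer hF h (show 0 < n by omega)
  refine ⟨QuotientGroup.mk A, ?_⟩
  obtain ⟨c, hc1, hc2, hc⟩ := scalar_of_mk_pow hF hn (pow_orderOf_eq_one (QuotientGroup.mk A : Cfsg.PSU n F q))
  set j := orderOf (QuotientGroup.mk A : Cfsg.PSU n F q)
  set G := Nat.gcd n (q + 1) with hG
  have h1 : cof q n ∣ j * G := by
    refine hA.trans (orderOf_dvd_of_pow_eq_one ((su_pow_eq_one_iff A _).2 ?_))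
    rw [pow_mul, hc, ← map_pow, hG, pow_gcd_eq_one.2 ⟨hc2, hc1⟩, map_one]
  have hq1 : 1 ≤ q := Nat.pos_of_ne_zero fun h0 => by
    have := Fintype.card_pos (α := F)
    rw [hF, h0] at this
    simp at this
  obtain ⟨i, hi⟩ : G ∣ cof q n := (dvd_cof_iff hq1 (Nat.gcd_dvd_right _ _)).2 (Nat.gcd_dvd_left _ _)
  have hG0 : 0 < G := Nat.gcd_pos_of_pos_left _ (by omega)
  rw [hi, Nat.mul_div_cancel_left _ hG0]
  rw [hi, mul_comm j G] at h1
  exact Nat.dvd_of_mul_dvd_mul_left hG0 h1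

theorem exists_unipotent_order (hF : Fintype.card F = q ^ 2) (h : UFrob σ q) (p : ℕ) [Fact p.Prime] [CharP F p]
    (hn : 2 ≤ n) : ∃ k : Cfsg.PSU n F q, p ^ Nat.clog p n ∣ orderOf k := by
  obtain ⟨U, hU, hv⟩ := exists_unipotent hF h p (show 0 < n by omega)
  obtain ⟨g, hg, -⟩ := exists_blocks hF h hn (zero_add n) (1 : Cfsg.SU 0 F q) U
  exact ⟨_, hU.trans (hg hv).2.1⟩

/-- Two semisimple parts in one element. -/
theorem exists_two (hF : Fintype.card F = q ^ 2) (h : UFrob σ q) (hn : 2 ≤ n) {d₁ d₂ : ℕ} (h₁ : 0 < d₁) (h₂ : 0 < d₂)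
    (hd₁ : d₁ ∣ n) (hd₂ : d₂ ∣ n) (hl₁ : d₁ < n) (hl₂ : d₂ < n) {r : ℕ} (hr : r.Prime) (hrq : r ∣ q + 1)
    (hrn : ¬ r ∣ n) :
    ∃ k : Cfsg.PSU n F q, cof q d₁ ∣ orderOf k ∧ cof q d₂ ∣ orderOf k ∧ r ∣ orderOf k := by
  obtain ⟨A₁, hA₁⟩ := exists_singer hF h h₁
  obtain ⟨A₂, hA₂⟩ := exists_singer hF h h₂
  obtain ⟨B, hB, hv⟩ : ∃ B : Cfsg.SU (n - d₁) F q, (d₂ = d₁ ∨ cof q d₂ ∣ orderOf B) ∧
        ∃ v : Fin (n - d₁) → F, v ≠ 0 ∧ B.1.1 *ᵥ v = v := by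
    by_cases he : d₂ = d₁
    · exact ⟨1, Or.inl he, one_fixed (by omega)⟩
    have hlt : d₂ + d₁ < n := by
      obtain ⟨a, rfl⟩ := hd₁
      obtain ⟨c, hc⟩ := hd₂
      have ha : 2 ≤ a := by
        by_contra h; interval_cases a <;> simp at hl₁
      have hc2 : 2 ≤ c := by
        by_contra h; interval_cases c <;> simp [hc] at hl₂
      have := Nat.mul_le_mul_left d₁ ha
      have := Nat.mul_le_mul_left d₂ hc2
      omega
    obtain ⟨g, hg, -⟩ := exists_blocks hF h (show 2 ≤ n - d₁ by omega)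
      (show d₂ + (n - d₁ - d₂) = n - d₁ by omega) A₂ 1
    obtain ⟨-, -, ha, -, hv⟩ := hg (one_fixed (by omega))
    exact ⟨g, Or.inr (hA₂.trans ha), hv⟩
  obtain ⟨g, hg, hidem⟩ := exists_blocks hF h hn (show d₁ + (n - d₁) = n by omega) A₁ B
  obtain ⟨E, h1, h2, h3, h4, h5⟩ := hidem h₁ (by omega)
  obtain ⟨k, hk⟩ := exists_mul_prime hF h hn hr hrq hrn h1 h2 h3 h4 h5
  obtain ⟨ha, hb, -⟩ := hg hv
  have hk1 := (Nat.dvd_lcm_left _ _).trans hk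
  refine ⟨k, (hA₁.trans ha).trans hk1, ?_, (Nat.dvd_lcm_right _ _).trans hk⟩
  rcases hB with rfl | hB
  · exact (hA₁.trans ha).trans hk1
  · exact (hB.trans hb).trans hk1

/-- A semisimple and a unipotent part in one element. -/
theorem exists_mixed (hF : Fintype.card F = q ^ 2) (h : UFrob σ q) (hn : 2 ≤ n) (p : ℕ) [Fact p.Prime] [CharP F p]
    {a : ℕ} (hq : q = p ^ a) (ha0 : 0 < a) (hpow : ¬ ∃ j : ℕ, n - 1 = p ^ j) {d : ℕ} (h₁ : 0 < d) (hd : d ∣ n)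
    (hl : d < n) {r : ℕ} (hr : r.Prime) (hrq : r ∣ q + 1) (hrn : ¬ r ∣ n) :
    ∃ k : Cfsg.PSU n F q, p ^ Nat.clog p (n / d) * cof q d ∣ orderOf k ∧ r ∣ orderOf k := by
  obtain ⟨A, hA⟩ := exists_singer hF h h₁
  obtain ⟨U, hU, hv⟩ := exists_unipotent hF h p (show 0 < n - d by omega)
  obtain ⟨g, hg, hidem⟩ := exists_blocks hF h hn (show d + (n - d) = n by omega) A U
  obtain ⟨E, h1, h2, h3, h4, h5⟩ := hidem h₁ (by omega)
  obtain ⟨k, hk⟩ := exists_mul_prime hF h hn hr hrq hrn h1 h2 h3 h4 h5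
  obtain ⟨ha, hb, -⟩ := hg hv
  have hk1 := (Nat.dvd_lcm_left _ _).trans hk
  refine ⟨k, (coprime_cof hq ha0 _ h₁).mul_dvd_of_dvd_of_dvd ?_ ((hA.trans ha).trans hk1),
    (Nat.dvd_lcm_right _ _).trans hk⟩
  refine (pow_dvd_pow p ?_).trans ((hU.trans hb).trans hk1)
  have hp := (Fact.out : p.Prime)
  obtain ⟨e, rfl⟩ := hd
  rw [Nat.mul_div_cancel_left _ h₁]
  by_cases hd1 : d = 1
  · subst hd1
    rw [one_mul] at *
    refine (Nat.clog_le_iff_le_pow hp.one_lt).2 ?_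
    have := Nat.le_pow_clog hp.one_lt (e - 1)
    rcases this.lt_or_eq with h | h
    · omega
    · exact absurd ⟨_, h⟩ hpow
  · refine Nat.clog_mono_right p (Nat.le_sub_of_add_le ?_)
    have : 2 ≤ e := by
      by_contra h; interval_cases e <;> simp at hl
    nlinarith [show 2 ≤ d by omega]

end CfsgLib.KnownB.PSUOrders
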